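import Mathlib.RingTheory.Noetherian.Basic
import Mathlib.LinearAlgebra.Eigenspace.Basic
import Mathlib.RingTheory.Finiteness.Basic
import Mathlib.Algebra.Algebra.Tower
import Mathlib.Tactic.Module

/-!
# Simultaneous diagonalization over a field of module endomorphisms over a Noetherian algebra
-/

universe u v w x

namespace Groth.Agent.L13.Simul

open Submodule

variable {k : Type u} [Field k] {R : Type v} [CommRing R] [Algebra k R]
  {V : Type w} [AddCommGroup V] [Module R V] [Module k V] [IsScalarTower k R V]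

/-- An eigenspace, as a submodule over the larger ring. -/
noncomputable def eig (f : Module.End R V) (μ : k) : Submodule R V :=
  LinearMap.ker (f - algebraMap k R μ • LinearMap.id)

theorem mem_eig {f : Module.End R V} {μ : k} {v : V} : v ∈ eig f μ ↔ f v = μ • v := by
  simp [eig, sub_eq_zero, algebraMap_smul]

theorem eigenspace_eq (f : Module.End R V) (μ : k) :
    Module.End.eigenspace (f.restrictScalars k) μ = (eig f μ).restrictScalars k := by
  ext v
  rw [Module.End.mem_eigenspace_iff, restrictScalars_mem, mem_eig]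
  rfl

theorem mem_of_sum_mem {D : Submodule R V} {f : Module.End R V} (hD : ∀ v ∈ D, f v ∈ D)
    (s : Finset k) : ∀ g : k → V, (∀ μ ∈ s, g μ ∈ eig f μ) → ∑ μ ∈ s, g μ ∈ D →
      ∀ μ ∈ s, g μ ∈ D := by
  classical
  induction s using Finset.induction_on with
  | empty => simp
  | @insert a s ha ih =>
    intro g hg hsum
    rw [Finset.sum_insert ha] at hsum
    have hsub : ∑ μ ∈ s, (μ - a) • g μ ∈ D := by
      have h1 : f (g a + ∑ μ ∈ s, g μ) - algebraMap k R a • (g a + ∑ μ ∈ s, g μ) ∈ D :=
        D.sub_mem (hD _ hsum) (D.smul_mem _ hsum)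
      convert h1 using 1
      rw [map_add, map_sum, algebraMap_smul, mem_eig.mp (hg a (Finset.mem_insert_self a s)),
        Finset.sum_congr rfl fun μ hμ => mem_eig.mp (hg μ (Finset.mem_insert_of_mem hμ)),
        smul_add, Finset.smul_sum, add_sub_add_left_eq_sub, ← Finset.sum_sub_distrib]
      exact Finset.sum_congr rfl fun μ _ => sub_smul _ _ _
    have hrest : ∀ μ ∈ s, g μ ∈ D := fun μ hμ => by
      have h := ih (fun ν => (ν - a) • g ν) (fun ν hν => by
        have := mem_eig.mp (hg ν (Finset.mem_insert_of_mem hν))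
        rw [mem_eig]
        show f ((ν - a) • g ν) = ν • (ν - a) • g ν
        rw [← algebraMap_smul R (ν - a) (g ν), map_smul, this, algebraMap_smul, algebraMap_smul,
          smul_comm]) hsub μ hμ
      have hne : μ - a ≠ 0 := sub_ne_zero.mpr fun h => ha (h ▸ hμ)
      have h2 := D.smul_mem (algebraMap k R (μ - a)⁻¹) h
      simp only [algebraMap_smul, inv_smul_smul₀ hne] at h2
      exact h2
    intro μ hμ
    rcases Finset.mem_insert.mp hμ with rfl | hμ
    · exact (D.add_mem_iff_left (D.sum_mem hrest)).mp hsum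
    · exact hrest μ hμ

theorem le_iSup_inf {D : Submodule R V} {f : Module.End R V} (hD : ∀ v ∈ D, f v ∈ D)
    (htop : ⨆ μ : k, eig f μ = ⊤) : D ≤ ⨆ μ : k, D ⊓ eig f μ := by
  classical
  intro v hv
  obtain ⟨g, hg, hsum⟩ := (mem_iSup_iff_exists_finsupp _ _).mp
    (htop ▸ mem_top : v ∈ ⨆ μ : k, eig f μ)
  subst hsum
  exact sum_mem fun μ hμ => mem_iSup_of_mem μ
    ⟨mem_of_sum_mem hD g.support g (fun ν _ => hg ν) hv μ hμ, hg μ⟩

variable {ι : Type x} {f : ι → Module.End R V}

/-- A commuting family of endomorphisms, diagonalizable over `k` and locally finite over the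
Noetherian ring, is simultaneously diagonalizable. -/
theorem iSup_iInf_eigenspace_eq_top [IsNoetherianRing R] (hcomm : ∀ i j, Commute (f i) (f j))
    (hdiag : ∀ i, ⨆ μ : k, Module.End.eigenspace ((f i).restrictScalars k) μ = ⊤)
    (hfin : ∀ v : V, ∃ W : Submodule R V, v ∈ W ∧ W.FG ∧ ∀ i, ∀ w ∈ W, f i w ∈ W) :
    ⨆ χ : ι → k, ⨅ i, Module.End.eigenspace ((f i).restrictScalars k) (χ i) = ⊤ := by
  classical
  have htop : ∀ i, ⨆ μ : k, eig (f i) μ = ⊤ := fun i => eq_top_iff.mpr fun v _ => by
    have h : (⨆ μ : k, Module.End.eigenspace ((f i).restrictScalars k) μ) ≤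
        (⨆ μ : k, eig (f i) μ).restrictScalars k := iSup_le fun μ => by
      rw [eigenspace_eq]
      exact restrictScalars_mono k (le_iSup (fun μ => eig (f i) μ) μ)
    rw [hdiag i] at h
    exact h mem_top
  let Good : Submodule R V := ⨆ χ : ι → k, ⨅ i, eig (f i) (χ i)
  have hgood : ∀ v, v ∈ Good := fun v => by
    obtain ⟨W, hvW, hW, hWst⟩ := hfin v
    have : IsNoetherian R W := isNoetherian_of_fg_of_noetherian W hW
    suffices key : ∀ C : Submodule R W, ∀ D : Submodule R V, D ≤ W →
        (∀ i, ∀ w ∈ D, f i w ∈ D) → Disjoint (C.map W.subtype) D → D ≤ Good from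
      key ⊥ W le_rfl hWst (by simp) hvW
    intro C
    induction C using (wellFounded_gt (α := Submodule R W)).induction with
    | _ C ih =>
      intro D hDW hDst hCD
      by_cases hsc : ∀ i, ∃ μ : k, D ≤ eig (f i) μ
      · choose μ hμ using hsc
        exact le_iSup_of_le μ (le_iInf hμ)
      push Not at hsc
      obtain ⟨i, hi⟩ := hsc
      refine (le_iSup_inf (hDst i) (htop i)).trans (iSup_le fun μ => ?_)
      -- the complement of the eigenspace of `μ` is non-zero
      let D₂ : Submodule R V := ⨆ (ν : k) (_ : ν ≠ μ), D ⊓ eig (f i) ν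
      have hsplit : D ≤ (D ⊓ eig (f i) μ) ⊔ D₂ := (le_iSup_inf (hDst i) (htop i)).trans
        (iSup_le fun ν => by
          by_cases h : ν = μ
          · subst h; exact le_sup_left
          · exact le_sup_of_le_right (le_iSup₂_of_le ν h le_rfl))
      have hD₂ : D₂ ≠ ⊥ := fun h => hi μ (by
        rw [h, sup_bot_eq] at hsplit
        exact hsplit.trans inf_le_right)
      have hD₂D : D₂ ≤ D := iSup₂_le fun ν _ => inf_le_left
      have hdis : Disjoint (D ⊓ eig (f i) μ) D₂ := by
        have hindep := Module.End.eigenspaces_iSupIndep ((f i).restrictScalars k)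
        rw [Submodule.disjoint_def]
        intro v hv₁ hv₂
        refine Submodule.disjoint_def.mp (hindep μ) v (by rw [eigenspace_eq]; exact hv₁.2) ?_
        have h : D₂ ≤ ⨆ (ν : k) (_ : ν ≠ μ), eig (f i) ν := iSup₂_mono fun ν _ => inf_le_right
        replace hv₂ := h hv₂
        rw [iSup_subtype'] at hv₂ ⊢
        refine Submodule.iSup_induction _ (x := v) hv₂
          (fun ν x hx => mem_iSup_of_mem ν (by rw [eigenspace_eq]; exact hx)) (zero_mem _)
          fun x y hx hy => add_mem hx hy
      have hC' : C < C ⊔ D₂.comap W.subtype := by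
        refine lt_of_le_of_ne le_sup_left fun h => hD₂ ?_
        refine (Submodule.eq_bot_iff _).mpr fun x hx => ?_
        have hxC : (⟨x, hDW (hD₂D hx)⟩ : W) ∈ C := by
          rw [h]; exact mem_sup_right hx
        exact Submodule.disjoint_def.mp hCD x ⟨_, hxC, rfl⟩ (hD₂D hx)
      refine ih _ hC' (D ⊓ eig (f i) μ) (inf_le_left.trans hDW) (fun j w hw => ⟨hDst j w hw.1, ?_⟩) ?_
      · rw [SetLike.mem_coe, mem_eig] at *
        have := DFunLike.congr_fun (hcomm i j).eq w
        simp only [Module.End.mul_apply] at this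
        rw [this, mem_eig.mp hw.2, ← algebraMap_smul R μ, map_smul, algebraMap_smul]
      · rw [Submodule.map_sup, Submodule.disjoint_def]
        intro x hx₁ hx₂
        obtain ⟨c, hc, d, hd, rfl⟩ := mem_sup.mp hx₁
        obtain ⟨d, hd, rfl⟩ := hd
        have hcD : c ∈ D := by
          have := D.sub_mem hx₂.1 (hD₂D hd)
          rwa [add_sub_cancel_right] at this
        have hc0 : c = 0 := Submodule.disjoint_def.mp hCD c hc hcD
        subst hc0
        rw [zero_add] at hx₂ ⊢
        exact Submodule.disjoint_def.mp hdis _ hx₂ hd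
  refine eq_top_iff.mpr fun v _ => ?_
  refine Submodule.iSup_induction _ (x := v) (hgood v) (fun χ x hx => ?_) (zero_mem _)
    fun x y hx hy => add_mem hx hy
  refine mem_iSup_of_mem χ (mem_iInf _ |>.mpr fun i => ?_)
  rw [eigenspace_eq]
  exact (mem_iInf _).mp hx i

end Groth.Agent.L13.Simul
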